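import Groth.Agent.AlgGrpLib.AffineCriterion
import Groth.Agent.AlgGrpLib.AntiAffine
import Groth.Agent.AmpleLib.Relative
import Groth.Agent.PicLib.PicGroup
import Groth.Agent.CubeLib.SeeSawProper
import Groth.Agent.AbCubeLib.KernelPhi
import Groth.Agent.AbCubeLib.Subvariety
import Groth.Agent.AbVarLib.AlgClosedIntegral
import Groth.Agent.AbSchLib.SmoothReduced
import Groth.Agent.SGA3cLib.SmoothPure
import Groth.Agent.RelVALib.ChowPn
import Groth.Agent.FBaseLib.Geom
import Groth.Agent.SGA3xLib.SepFibre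

/-!
# Anti-affine groups fixing an ample class act trivially
-/

set_option autoImplicit false
set_option linter.style.haveILetI false
set_option backward.isDefEq.respectTransparency.types false

universe u

open CategoryTheory CategoryTheory.Limits MonoidalCategory CartesianMonoidalCategory MonObj GrpObj AlgebraicGeometry
open Groth.Agent.PicLib Groth.Agent.AmpleLib Groth.Agent.Coherent Groth.Agent.AbCubeLib

namespace Groth.Agent.FixAmple29

variable {k : Type u} [Field k]

theorem inv_mul_eq_one_pic {X : Scheme.{u}} (a : PicM X) : ∃ b, b * a = 1 := by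
  obtain ⟨b, hb⟩ := PicM.exists_mul_eq_one a
  exact ⟨b, (_root_.mul_comm b a).trans hb⟩

/-- On an anti-affine scheme the locus of a section of a trivial module is empty or everything. -/
theorem glocus_eq_top_of_antiAffine {N : Over (Spec (CommRingCat.of k))} (hN : Function.Bijective N.hom.appTop)
    {P : N.left.Modules} (e : P ≅ Coh.structureModule N.left) (s : Γ(P, ⊤)) (x : N.left) (hx : x ∈ glocus P s) :
    glocus P s = ⊤ := by
  rw [← glocus_map_iso e] at hx ⊢
  let r : Γ(N.left, ⊤) := e.hom.app ⊤ s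
  have hr : glocus (Coh.structureModule N.left) (e.hom.app ⊤ s) = N.left.basicOpen r := AmpleLib.glocus_structureModule r
  rw [hr] at hx ⊢
  obtain ⟨c, hc⟩ := hN.2 r
  refine Scheme.basicOpen_of_isUnit N.left ?_
  rw [← hc]
  refine IsUnit.map _ ?_
  obtain ⟨c', rfl⟩ : ∃ c', (Scheme.ΓSpecIso (CommRingCat.of k)).inv c' = c :=
    ((ConcreteCategory.isIso_iff_bijective (Scheme.ΓSpecIso (CommRingCat.of k)).inv).1 inferInstance).2 c
  refine IsUnit.map _ (isUnit_iff_ne_zero.2 fun h => ?_)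
  rw [← hc, h, map_zero, map_zero, Scheme.basicOpen_zero] at hx
  exact hx

/-- If two maps from an anti-affine scheme pull an ample class to mutually inverse classes, they are constant. -/
theorem eq_const_of_ample {N X : Over (Spec (CommRingCat.of k))} [CompactSpace N.left]
    [QuasiSeparatedSpace N.left] (hN : Function.Bijective N.hom.appTop)
    (n₀ : 𝟙_ (Over (Spec (CommRingCat.of k))) ⟶ N) {L : X.left.Modules} (hL : CohB1.IsAmple L) (φ ψ : N ⟶ X)
    (h : pb φ (PicM.of hL.1) * pb ψ (PicM.of hL.1) = 1) : φ = toUnit N ≫ n₀ ≫ φ := by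
  obtain ⟨hLi, hc, haff⟩ := isAmple_iff_affGlocus.1 hL
  let p : N.left := n₀.left.base (IsLocalRing.closedPoint k)
  obtain ⟨m, hm, a, hxa, -, haa⟩ := haff (φ.left p)
  obtain ⟨n, hn, b, hyb, -, -⟩ := haff (ψ.left p)
  obtain ⟨a', ha'⟩ := exists_glocus_pow hLi m a n hn
  obtain ⟨b', hb'⟩ := exists_glocus_pow hLi n b m hm
  have key : ∀ j, j = m * n → ∃ b'' : Γ(CohB1.tensorPow L j, ⊤), glocus _ b'' = glocus _ b := by
    intro j hj
    obtain rfl : j = n * m := hj.trans (Nat.mul_comm m n)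
    exact ⟨b', hb'⟩
  obtain ⟨b'', hb''⟩ := key _ rfl
  have hP := isInvertible_tensorPow hLi (m * n)
  have hA := PicLoc.isInvertible_pullback φ.left hP
  have hB := PicLoc.isInvertible_pullback ψ.left hP
  have e1 : PicM.of (isInvertible_tensorMod hA hB) = 1 := by
    rw [← PicM.of_mul hA hB, ← PicM.pull_of φ.left hP, ← PicM.pull_of ψ.left hP, PicM.of_tensorPow hLi,
      map_pow, map_pow, ← mul_pow]
    show (pb φ _ * pb ψ _) ^ _ = 1
    rw [h, one_pow]
  obtain ⟨e⟩ := (PicM.of_eq_one_iff _).1 e1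
  let s := tmul (pullSec φ.left a') (pullSec ψ.left b'')
  have hs : glocus _ s = φ.left ⁻¹ᵁ glocus _ a ⊓ ψ.left ⁻¹ᵁ glocus _ b := by
    exact (glocus_tmul hA hB _ _).trans (congrArg₂ (· ⊓ ·)
      ((glocus_pullSec φ.left hP a').trans (congrArg (φ.left ⁻¹ᵁ ·) ha'))
      ((glocus_pullSec ψ.left hP b'').trans (congrArg (ψ.left ⁻¹ᵁ ·) hb'')))
  have htop := glocus_eq_top_of_antiAffine hN e s p (hs.ge ⟨hxa, hyb⟩)
  rw [hs] at htop
  have hsub : Set.range φ.left ⊆ Set.range (glocus _ a).ι := by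
    rw [Scheme.Opens.range_ι]
    rintro _ ⟨z, rfl⟩
    exact (htop.ge (TopologicalSpace.Opens.mem_top z)).1
  let U : Over (Spec (CommRingCat.of k)) := Over.mk ((glocus _ a).ι ≫ X.hom)
  haveI : IsAffine U.left := haa
  let φ' : N ⟶ U := Over.homMk (IsOpenImmersion.lift (glocus _ a).ι φ.left hsub) (by
    show _ ≫ (glocus _ a).ι ≫ X.hom = _
    rw [IsOpenImmersion.lift_fac_assoc, Over.w])
  let j : U ⟶ X := Over.homMk (glocus _ a).ι rfl
  have hφ : φ' ≫ j = φ := Over.OverMorphism.ext (IsOpenImmersion.lift_fac _ _ hsub)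
  rw [← hφ]
  simp only [← Category.assoc]
  congr 1
  simpa only [Category.assoc] using AlgGrpLib.eq_const_of_affine hN n₀ φ'

variable [IsAlgClosed k]

/-- An anti-affine group whose points fix an ample class on a projective variety acts trivially. -/
theorem act_eq_snd {N G X : Over (Spec (CommRingCat.of k))} [GrpObj N] [GrpObj G] [Smooth N.hom] [QuasiCompact N.hom]
    [ConnectedSpace N.left] (hN : Function.Bijective N.hom.appTop) (j : N ⟶ G) [IsMonHom j]
    [IsProper X.hom] [IsIntegral X.left] (a : AlgGrp.Action G X) {L : X.left.Modules} (hL : CohB1.IsAmple L)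
    (hfix : ∀ g : 𝟙_ (Over (Spec (CommRingCat.of k))) ⟶ N,
      pb (lift (toUnit X ≫ g ≫ j) (𝟙 X) ≫ a.act) (PicM.of hL.1) = PicM.of hL.1) :
    lift (fst N X ≫ j) (snd N X) ≫ a.act = snd N X := by
  haveI : IsSeparated N.hom := SGA3xLib.isSeparated_of_grpObj N
  haveI : IsIntegral N.left := SGA3cLib.SmoothPure.isIntegral_of_smooth_connected N.hom
  haveI := AbVarLib.geometricallyIntegral_of_isAlgClosed X.hom
  haveI : CompactSpace N.left := QuasiCompact.compactSpace_of_compactSpace N.hom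
  haveI : IsLocallyNoetherian N.left := LocallyOfFiniteType.isLocallyNoetherian N.hom
  haveI : JacobsonSpace X.left := LocallyOfFiniteType.jacobsonSpace X.hom
  obtain ⟨v, -, hv⟩ := nonempty_inter_closedPoints (Z := (Set.univ : Set X.left))
    ⟨genericPoint X.left, trivial⟩ isClosed_univ.isLocallyClosed
  obtain ⟨x₀, -⟩ := AbCubeLib.exists_ptOf (mem_closedPoints_iff.1 hv)
  let b : N ⊗ X ⟶ X := lift (fst N X ≫ j) (snd N X) ≫ a.act
  let l := PicM.of hL.1
  have hb : ∀ {P : Over (Spec (CommRingCat.of k))} (x : P ⟶ N) (z : P ⟶ X), lift x z ≫ b = lift (x ≫ j) z ≫ a.act :=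
    fun x z => by simp only [b]; rw [← Category.assoc, comp_lift, lift_fst_assoc, lift_snd]
  have hmul : ∀ {P : Over (Spec (CommRingCat.of k))} (x y : P ⟶ N) (z : P ⟶ X),
      lift x (lift y z ≫ b) ≫ b = lift (x * y) z ≫ b := by
    intro P x y z
    rw [hb, hb, hb, MonObj.mul_comp]
    have h := congrArg (lift (lift (x ≫ j) (y ≫ j)) z ≫ ·) a.mul_act
    simp only [lift_whiskerRight_assoc, lift_lift_associator_hom_assoc, lift_whiskerLeft_assoc] at h
    rw [← Hom.mul_def] at h
    exact h.symm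
  have hone : ∀ {P : Over (Spec (CommRingCat.of k))} (z : P ⟶ X), lift (1 : P ⟶ N) z ≫ b = z := by
    intro P z
    rw [hb, MonObj.one_comp, show (1 : P ⟶ G) = toUnit P ≫ η[G] from rfl]
    have h := congrArg (lift (toUnit P) z ≫ ·) a.one_act
    simp only [lift_whiskerRight_assoc, lift_leftUnitor_hom] at h
    exact h
  let M := pb (lift (𝟙 N) (toUnit N ≫ x₀) ≫ b) l
  obtain ⟨l', hl'⟩ := PicM.exists_mul_eq_one l
  obtain ⟨M', hM'⟩ := PicM.exists_mul_eq_one M
  let c := pb b l * pb (fst N X) M' * pb (snd N X) l'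
  have hconst : ∀ {P W : Over (Spec (CommRingCat.of k))} (w : 𝟙_ (Over (Spec (CommRingCat.of k))) ⟶ W) (q : PicM W.left),
      pb (toUnit P ≫ w) q = 1 := fun w q => AbCubeLib.pb_const w q
  have hc : c = 1 := by
    refine CubeLib.eq_one_of_closed_fibres x₀ c ?_ fun t => ?_
    · show pb (lift (𝟙 N) (toUnit N ≫ x₀)) c = 1
      simp only [c, map_mul, pb_pb, lift_fst, lift_snd, hconst, _root_.mul_one]
      rw [AbCubeLib.pb_id]
      exact hM'
    · show pb (lift (toUnit X ≫ t) (𝟙 X)) c = 1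
      simp only [c, map_mul, pb_pb, lift_fst, lift_snd, hconst, _root_.mul_one]
      rw [hb, Category.assoc, hfix t, AbCubeLib.pb_id]
      exact hl'
  have hkey : pb b l = pb (fst N X) M * pb (snd N X) l := by
    calc pb b l = pb b l * pb (fst N X) (M * M') * pb (snd N X) (l * l') := by
          rw [hM', hl']; simp only [map_one, _root_.mul_one]
      _ = c * (pb (fst N X) M * pb (snd N X) l) := by
          simp only [c, pb, map_mul]
          ac_rfl
      _ = _ := by rw [hc, _root_.one_mul]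
  have hpull : ∀ {P : Over (Spec (CommRingCat.of k))} (x : P ⟶ N) (z : P ⟶ X),
      pb (lift x z ≫ b) l = pb x M * pb z l := fun x z => by
    rw [← pb_pb, hkey]
    simp only [map_mul, pb_pb, lift_fst, lift_snd]
  refine Over.OverMorphism.ext ?_
  haveI : IsReduced N.left := inferInstance
  haveI : GeometricallyReduced X.hom := inferInstance
  haveI : IsReduced (N ⊗ X).left := by
    haveI : GeometricallyReduced N.hom := AbSchLib.geometricallyReduced_of_smooth N.hom
    exact FBaseLib.isReduced_pullback N.hom X.hom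
  haveI : LocallyOfFiniteType (N ⊗ X).hom :=
    inferInstanceAs (LocallyOfFiniteType (pullback.fst N.hom X.hom ≫ N.hom))
  haveI : LocallyOfFiniteType ((lift (fst N X ≫ j) (snd N X) ≫ a.act).left ≫ X.hom) := by rw [Over.w]; infer_instance
  refine ext_of_apply_eq X.hom Set.univ isOpen_univ.isLocallyClosed dense_univ (fun q _ hq => ?_) (by rw [Over.w, Over.w])
  obtain ⟨w, rfl⟩ := AbCubeLib.exists_ptOf hq
  show (w ≫ b).left (IsLocalRing.closedPoint k) = (w ≫ snd N X).left (IsLocalRing.closedPoint k)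
  let y := w ≫ snd N X
  let φ : N ⟶ X := lift (𝟙 N) (toUnit N ≫ y) ≫ b
  let ψ : N ⟶ X := lift ((𝟙 N : N ⟶ N)⁻¹) (toUnit N ≫ y) ≫ b
  have hcomp : lift (𝟙 N) ψ ≫ b = toUnit N ≫ y := by rw [hmul, mul_inv_cancel, hone]
  have hMinv : M * pb (𝟙 N)⁻¹ M = 1 := by
    have h1 := hpull (𝟙 N) ψ
    rw [hcomp, hconst, hpull, hconst, _root_.mul_one, AbCubeLib.pb_id] at h1
    exact h1.symm
  have hprod : pb φ l * pb ψ l = 1 := by
    rw [hpull, hpull, hconst, _root_.mul_one, _root_.mul_one, AbCubeLib.pb_id]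
    exact hMinv
  have hφ := eq_const_of_ample hN η[N] hL φ ψ hprod
  have hη : η[N] ≫ φ = y := by
    have h1 : η[N] = (1 : 𝟙_ (Over (Spec (CommRingCat.of k))) ⟶ N) := by
      rw [Hom.one_def, toUnit_unique (toUnit _) (𝟙 _), Category.id_comp]
    have he : η[N] ≫ lift (𝟙 N) (toUnit N ≫ y) = lift η[N] y := by
      rw [comp_lift, Category.comp_id, ← Category.assoc, toUnit_unique (η[N] ≫ toUnit N) (𝟙 _), Category.id_comp]
    show η[N] ≫ lift (𝟙 N) (toUnit N ≫ y) ≫ b = y
    rw [show η[N] ≫ lift (𝟙 N) (toUnit N ≫ y) ≫ b = lift η[N] y ≫ b from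
      (Category.assoc _ _ _).symm.trans (congrArg (· ≫ b) he), h1, hone]
  have hw : w ≫ b = y := by
    have hwe : w = (w ≫ fst N X) ≫ lift (𝟙 N) (toUnit N ≫ y) := by
      refine CartesianMonoidalCategory.hom_ext _ _ ?_ ?_
      · simp
      · rw [Category.assoc, lift_snd, ← Category.assoc, toUnit_unique ((w ≫ fst N X) ≫ toUnit N) (𝟙 _), Category.id_comp]
    rw [hwe, Category.assoc, show lift (𝟙 N) (toUnit N ≫ y) ≫ b = φ from rfl, hφ, ← Category.assoc,
      toUnit_unique ((w ≫ fst N X) ≫ toUnit N) (𝟙 _), Category.id_comp, hη]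
  rw [hw]

end Groth.Agent.FixAmple29
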